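/-
S4371 project: vocabulary and hereditary properties.
-/
import Cfsg.Agent.Lib.AG.K4
import Cfsg.Agent.BS.S.Bender

set_option autoImplicit false

namespace Cfsg.Agent.Lib.OD

open Subgroup Cfsg.Agent.Lib.Core

/-- no prime divides three different element orders -/
def H3 (G : Type*) [Group G] : Prop := ∀ p : ℕ, p.Prime → ∀ a b c : G, orderOf a ≠ orderOf b →
  orderOf b ≠ orderOf c → orderOf a ≠ orderOf c → ¬ (p ∣ orderOf a ∧ p ∣ orderOf b ∧ p ∣ orderOf c)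

/-- centralisers of involutions have exponent dividing 4 -/
def C4 (G : Type*) [Group G] : Prop := ∀ t g : G, t * t = 1 → t ≠ 1 → t * g = g * t → g ^ 4 = 1

/-- even orders are `2, 2r`; orders divisible by `r` are `r, 2r` -/
structure NR (G : Type*) [Group G] (r : ℕ) : Prop where
  prime : r.Prime
  odd : r ≠ 2
  two : ∀ x : G, 2 ∣ orderOf x → orderOf x = 2 ∨ orderOf x = 2 * r
  rr : ∀ x : G, r ∣ orderOf x → orderOf x = r ∨ orderOf x = 2 * r

/-- has a strongly embedded subgroup -/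
def SE (G : Type*) [Group G] : Prop := ∃ M : Subgroup G, Cfsg.IsStronglyEmbedded M

/-- `G ≅ L₂(q)` -/
def L2 (G : Type*) [Group G] (q : ℕ) : Prop := ∃ (F : Type) (_ : Field F) (_ : Fintype F),
  Fintype.card F = q ∧ Nonempty (G ≃* Matrix.ProjectiveSpecialLinearGroup (Fin 2) F)

/-- `G ≅ L₂(2ⁿ)` -/
def L2e (G : Type*) [Group G] : Prop := ∃ (F : Type) (_ : Field F) (_ : Fintype F), CharP F 2 ∧
  4 ≤ Fintype.card F ∧ Nonempty (G ≃* Matrix.ProjectiveSpecialLinearGroup (Fin 2) F)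

/-- `G ≅ L₃(4)` -/
def L34 (G : Type*) [Group G] : Prop := ∃ (F : Type) (_ : Field F) (_ : Fintype F),
  Fintype.card F = 4 ∧ Nonempty (G ≃* Matrix.ProjectiveSpecialLinearGroup (Fin 3) F)

/-- Suzuki type -/
def SzC (G : Type*) [Group G] : Prop := ∃ n : ℕ, 1 ≤ n ∧ IsSimpleGroup G ∧
  Nat.card G = (2 ^ (2 * n + 1)) ^ 2 * ((2 ^ (2 * n + 1)) ^ 2 + 1) * (2 ^ (2 * n + 1) - 1) ∧
  ∃ w x y z : G, orderOf w = 4 ∧ orderOf x = 2 ^ (2 * n + 1) - 1 ∧
    orderOf y = 2 ^ (2 * n + 1) - 2 ^ (n + 1) + 1 ∧ orderOf z = 2 ^ (2 * n + 1) + 2 ^ (n + 1) + 1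

variable {G : Type*} [Group G]

/-- Two parabolics `N(V)`, `N(W)` over the Sylow 2-subgroup `S = V W`. -/
structure AM (S V W : Subgroup G) (q : ℕ) : Prop where
  c4 : C4 G
  odd : OppOf 2 (⊤ : Subgroup G) = ⊥
  syl : IsSyl 2 S ⊤
  two : 2 ≤ q
  sqV : ∀ x ∈ V, x * x = 1
  sqW : ∀ x ∈ W, x * x = 1
  sup : V ⊔ W = S
  nV : S ≤ normalizer (V : Set G)
  nW : S ≤ normalizer (W : Set G)
  cardV : Nat.card V = q ^ 2
  cardW : Nat.card W = q ^ 2
  cardZ : Nat.card ↥(V ⊓ W) = q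
  /-- `C_V(b) = V ⊓ W` for `b ∈ W ∖ V`, and symmetrically -/
  cent : ∀ a ∈ V, ∀ b ∈ W, a * b = b * a → a ∈ W ∨ b ∈ V
  exV : ¬ normalizer (V : Set G) ≤ normalizer (S : Set G)
  exW : ¬ normalizer (W : Set G) ≤ normalizer (S : Set G)

/-- `AM` with a Cartan subgroup `⟨k⟩` and Weyl involutions `u, v`. -/
structure AD (S V W : Subgroup G) (q : ℕ) (z k u v : G) : Prop extends AM S V W q where
  zV : z ∈ V
  zW : z ∈ W
  z1 : z ≠ 1
  ordk : orderOf k + 1 = q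
  k3 : k ^ 3 = 1
  NS : S ⊔ zpowers k = normalizer (S : Set G)
  kV : k ∈ normalizer (V : Set G)
  kW : k ∈ normalizer (W : Set G)
  memZ : ∀ x ∈ V, x ∈ W → x = 1 ∨ x = z ∨ x = k * z * k⁻¹ ∨ x = k⁻¹ * z * k
  uu : u * u = 1
  vv : v * v = 1
  uV : u ∈ normalizer (V : Set G)
  vW : v ∈ normalizer (W : Set G)
  uS : u ∉ normalizer (S : Set G)
  vS : v ∉ normalizer (S : Set G)
  uk : u * k * u = k⁻¹
  vk : v * k * v = k⁻¹
  memV : ∀ a ∈ V, ∃ x ∈ V ⊓ W, ∃ y ∈ V ⊓ W, a = x * (u * y * u)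
  memW : ∀ a ∈ W, ∃ x ∈ V ⊓ W, ∃ y ∈ V ⊓ W, a = x * (v * y * v)
  comm1 : ∀ x ∈ V ⊓ W, u * x * u * (v * z * v) * (u * x * u * (v * z * v)) = x
  comm2 : ∀ y ∈ V ⊓ W, u * z * u * (v * y * v) * (u * z * u * (v * y * v)) = y
  cellV : ∀ g ∈ normalizer (V : Set G), g ∉ normalizer (S : Set G) →
    ∃ n ∈ normalizer (S : Set G), ∃ b ∈ W, g = n * u * b
  cellW : ∀ g ∈ normalizer (W : Set G), g ∉ normalizer (S : Set G) →
    ∃ n ∈ normalizer (S : Set G), ∃ a ∈ V, g = n * v * a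
  centZ : ∀ x ∈ V, x ∈ W → x ≠ 1 → ∀ g : G, x * g = g * x → g ∈ S
  conj : ∀ e : G, e * e = 1 → e ≠ 1 → IsConj z e
  invS : ∀ x ∈ S, x * x = 1 → x ∈ V ∨ x ∈ W

theorem AM.symm {S V W : Subgroup G} {q : ℕ} (h : AM S V W q) : AM S W V q :=
  ⟨h.c4, h.odd, h.syl, h.two, h.sqW, h.sqV, sup_comm V W ▸ h.sup, h.nW, h.nV, h.cardW, h.cardV,
    inf_comm V W ▸ h.cardZ, fun a ha b hb e => (h.cent b hb a ha e.symm).symm, h.exW, h.exV⟩

/-- relations of the amalgam `(S₄, S₄; D₈)` -/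
structure R2 (z a b u v : G) : Prop where
  zz : z * z = 1
  uu : u * u = 1
  vv : v * v = 1
  ua : u * z * u = a
  vb : v * z * v = b
  za : z * a = a * z
  zb : z * b = b * z
  ab : a * b * (a * b) = z
  ub : (u * b) ^ 3 = 1
  va : (v * a) ^ 3 = 1

/-- relations of the `L₃(4)` amalgam -/
structure R4 (z k u v a b : G) : Prop extends R2 z a b u v where
  k3 : k ^ 3 = 1
  zk : z * (k * z * k⁻¹) * (k⁻¹ * z * k) = 1
  uk : u * k * u = k⁻¹
  vk : v * k * v = k⁻¹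
  za1 : z * (k * a * k⁻¹) = k * a * k⁻¹ * z
  za2 : z * (k⁻¹ * a * k) = k⁻¹ * a * k * z
  zb1 : z * (k * b * k⁻¹) = k * b * k⁻¹ * z
  zb2 : z * (k⁻¹ * b * k) = k⁻¹ * b * k * z
  ab1 : a * (k * b * k⁻¹) * (a * (k * b * k⁻¹)) = k⁻¹ * z * k

section
variable {X : Type*} [Group X]

theorem H3.of_orders (h : H3 G) (e : ∀ x : X, ∃ g : G, orderOf g = orderOf x) : H3 X :=
  fun p hp a b c => by
    obtain ⟨a', ha⟩ := e a
    obtain ⟨b', hb⟩ := e b
    obtain ⟨c', hc⟩ := e c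
    rw [← ha, ← hb, ← hc]
    exact h p hp a' b' c'

theorem exists_order_of_dvd [Finite G] (g : G) {n : ℕ} (hn : n ∣ orderOf g) :
    ∃ x ∈ zpowers g, orderOf x = n :=
  ⟨_, npow_mem_zpowers g _, orderOf_pow_orderOf_div (orderOf_pos g).ne' hn⟩

theorem orders_of_injective (f : X →* G) (hf : Function.Injective f) (x : X) :
    ∃ g : G, orderOf g = orderOf x := ⟨f x, orderOf_injective f hf x⟩

theorem orders_of_surjective [Finite G] (f : G →* X) (hf : Function.Surjective f) (x : X) :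
    ∃ g : G, orderOf g = orderOf x := by
  obtain ⟨g, rfl⟩ := hf x
  obtain ⟨y, -, e⟩ := exists_order_of_dvd g (orderOf_map_dvd f g)
  exact ⟨y, e⟩

theorem H3.of_injective (h : H3 G) (f : X →* G) (hf : Function.Injective f) : H3 X :=
  h.of_orders (orders_of_injective f hf)

theorem H3.of_surjective [Finite G] (h : H3 G) (f : G →* X) (hf : Function.Surjective f) : H3 X :=
  h.of_orders (orders_of_surjective f hf)

theorem NR.of_orders {r : ℕ} (h : NR G r) (e : ∀ x : X, ∃ g : G, orderOf g = orderOf x) :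
    NR X r :=
  ⟨h.prime, h.odd, fun x => by obtain ⟨g, hg⟩ := e x; exact hg ▸ h.two g,
    fun x => by obtain ⟨g, hg⟩ := e x; exact hg ▸ h.rr g⟩

theorem NR.subgroup {r : ℕ} (h : NR G r) (H : Subgroup G) : NR H r :=
  h.of_orders (orders_of_injective H.subtype H.subtype_injective)

theorem C4.of_injective (h : C4 G) (f : X →* G) (hf : Function.Injective f) : C4 X :=
  fun t g tt t1 e => hf (by
    rw [map_pow, map_one]
    exact h (f t) (f g) (by rw [← map_mul, tt, map_one]) (fun e => t1 (hf (e.trans f.map_one.symm)))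
      (by rw [← map_mul, e, map_mul]))

/-- odd order elements centralise no involution -/
theorem C4.odd (h : C4 G) {t g : G} (tt : t * t = 1) (t1 : t ≠ 1) (e : t * g = g * t)
    (ho : Odd (orderOf g)) : g = 1 :=
  orderOf_eq_one_iff.1 (Nat.eq_one_of_dvd_coprimes
    ((Nat.coprime_two_right.2 ho).pow_right 2) dvd_rfl (orderOf_dvd_of_pow_eq_one (h t g tt t1 e)))
end

end Cfsg.Agent.Lib.OD
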