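/-
S4371 project: first consequences of `H3`.
-/
import Cfsg.Agent.Lib.OD.Defs

set_option autoImplicit false

namespace Cfsg.Agent.Lib.OD

open Subgroup

variable {G : Type*} [Group G] [Finite G]

omit [Finite G] in
theorem H3.false (h : H3 G) {p : ℕ} (hp : p.Prime) {a b c : G} {x y z : ℕ} (ha : orderOf a = x) (hb : orderOf b = y)
    (hc : orderOf c = z) (h1 : x ≠ y) (h2 : y ≠ z) (h3 : x ≠ z) (d1 : p ∣ x) (d2 : p ∣ y) (d3 : p ∣ z) : False := by
  subst ha hb hc
  exact h p hp a b c h1 h2 h3 ⟨d1, d2, d3⟩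

theorem H3.omega (h : H3 G) (x : G) : (orderOf x).primeFactorsList.length ≤ 2 := by
  by_contra! hl
  have e := Nat.prod_primeFactorsList (orderOf_pos x).ne'
  have pr := @Nat.prime_of_mem_primeFactorsList (orderOf x)
  generalize (orderOf x).primeFactorsList = l at *
  obtain _ | ⟨p, _ | ⟨q, _ | ⟨r, l⟩⟩⟩ := l <;> simp at hl
  have hp := @pr p (by simp)
  have hq := (@pr q (by simp)).one_lt
  have hr := (@pr r (by simp)).one_lt
  have := hp.pos
  simp only [List.prod_cons, ← mul_assoc] at e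
  obtain ⟨a, -, ha⟩ := exists_order_of_dvd x (n := p) ⟨q * r * l.prod, by rw [← e]; ring⟩
  obtain ⟨b, -, hb⟩ := exists_order_of_dvd x (n := p * q) ⟨r * l.prod, by rw [← e]; ring⟩
  obtain ⟨c, -, hc⟩ := exists_order_of_dvd x (n := p * q * r) ⟨_, e.symm⟩
  have h1 : p < p * q := lt_mul_of_one_lt_right this hq
  have h2 : p * q < p * q * r := lt_mul_of_one_lt_right (by omega) hr
  exact h.false hp ha hb hc h1.ne h2.ne (h1.trans h2).ne dvd_rfl (dvd_mul_right _ _) ((dvd_mul_right _ _).mul_right _)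

theorem H3.cases (h : H3 G) : C4 G ∨ ∃ r, NR G r := by
  refine or_iff_not_imp_left.2 fun hc => ?_
  obtain ⟨t, g, tt, t1, e, hg⟩ : ∃ t g : G, t * t = 1 ∧ t ≠ 1 ∧ t * g = g * t ∧ g ^ 4 ≠ 1 := by
    simpa [C4] using hc
  have ot : orderOf t = 2 := orderOf_eq_prime (by rw [pow_two, tt]) t1
  obtain ⟨r, hr, r2, d⟩ : ∃ r, r.Prime ∧ r ≠ 2 ∧ r ∣ orderOf g := by
    by_contra! hn
    obtain ⟨k, hk⟩ : ∃ k, orderOf g = 2 ^ k := ⟨_, Nat.eq_prime_pow_of_unique_prime_dvd (orderOf_pos g).ne'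
      fun hp hd => by_contra fun e => hn _ hp e hd⟩
    have := h.omega g
    rw [hk, Nat.prime_two.primeFactorsList_pow, List.length_replicate] at this
    exact hg (orderOf_dvd_iff_pow_eq_one.1 (hk ▸ pow_dvd_pow 2 this))
  obtain ⟨x, hx, ox⟩ := exists_order_of_dvd g d
  have c : Commute t x := by
    obtain ⟨k, rfl⟩ := hx
    exact (show Commute t g from e).zpow_right k
  have o : orderOf (t * x) = 2 * r := by
    rw [c.orderOf_mul_eq_mul_orderOf_of_coprime (by rw [ot, ox]; exact (Nat.coprime_primes Nat.prime_two hr).2 r2.symm),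
      ot, ox]
  have := hr.two_le
  refine ⟨r, hr, r2, fun y hy => by_contra fun hn => ?_, fun y hy => by_contra fun hn => ?_⟩ <;> rw [not_or] at hn
  · exact h.false Nat.prime_two rfl ot o hn.1 (by omega) hn.2 hy dvd_rfl (dvd_mul_right _ _)
  · exact h.false hr rfl ox o hn.1 (by omega) hn.2 hy dvd_rfl (dvd_mul_left _ _)

end Cfsg.Agent.Lib.OD
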