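/-
S4371 project: the tori of the Suzuki groups.
-/
import Cfsg.Agent.Lib.OD.Defs
import Cfsg.Agent.Lib.Suz.Syl

set_option autoImplicit false

namespace Cfsg.Agent.Lib.OD

open Subgroup Matrix Polynomial Cfsg.Agent.Lib.Suz

namespace Sz

def M {F : Type*} [Field F] (b c : F) : Matrix (Fin 4) (Fin 4) F := !![0, 0, 0, 1; 0, 0, 1, 0; 0, 1, 0, b; 1, 0, b, c]

theorem ch {K : Type*} [Field K] (two : (2 : K) = 0) (b c : K) :
    M b c * M b c * (M b c * M b c + c • M b c + b ^ 2 • 1) + c • M b c + 1 = 0 := by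
  rw [show M b c * M b c = !![1, 0, b, c; 0, 1, 0, b; b, 0, 1 + b * b, b * c; c, b, b * c, 1 + b * b + c * c] by
    ext i j; fin_cases i <;> fin_cases j <;> simp [M, Matrix.mul_apply, Fin.sum_univ_four, mul_comm]]
  rw [mul_add, mul_add, mul_smul_comm, mul_smul_comm, mul_one]
  ext i j
  fin_cases i <;> fin_cases j <;> simp [M] <;> grind

theorem order {K : Type*} [Field K] [CharP K 2] {b c l u : K} {m : ℕ} (hl : orderOf l = m) (hu : u ^ m = 1) (m0 : m ≠ 0)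
    (h1 : l ≠ l⁻¹) (h2 : u ≠ u⁻¹) (h3 : u ≠ l) (h4 : u ≠ l⁻¹) (hc : c = l + l⁻¹ + (u + u⁻¹))
    (hb : b ^ 2 = (l + l⁻¹) * (u + u⁻¹)) : orderOf (M b c) = m := by
  have two : (2 : K) = 0 := CharTwo.two_eq_zero
  have hm : l ^ m = 1 := hl ▸ pow_orderOf_eq_one l
  have l0 : l * l⁻¹ = 1 := mul_inv_cancel₀ fun e => by simp [e, m0] at hm
  have u0 : u * u⁻¹ = 1 := mul_inv_cancel₀ fun e => by simp [e, m0] at hu
  refine Nat.dvd_antisymm (orderOf_dvd_of_pow_eq_one ?_) (hl ▸ orderOf_dvd_of_pow_eq_one ?_)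
  · obtain ⟨f, hf⟩ : ∏ i, (X - C (![l, l⁻¹, u, u⁻¹] i)) ∣ (X ^ m - 1 : K[X]) :=
      Fintype.prod_dvd_of_coprime (pairwise_coprime_X_sub_C fun i j e => by
        fin_cases i <;> fin_cases j <;> simp_all [eq_comm, inv_eq_iff_eq_inv]) fun i => dvd_iff_isRoot.2 (by
        fin_cases i <;> simp [hm, hu])
    have e : ∏ i, (X - C (![l, l⁻¹, u, u⁻¹] i)) = X ^ 4 + C c * X ^ 3 + C (b ^ 2) * X ^ 2 + C c * X + 1 := by
      have a1 := congrArg C l0
      have a2 := congrArg C u0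
      have a3 := congrArg C two
      simp only [Fin.prod_univ_four, hb, hc, map_mul, map_add, map_one, map_ofNat, map_zero, cons_val] at *
      linear_combination (X ^ 2 - (C u + C u⁻¹) * X + C u * C u⁻¹) * a1 + (X ^ 2 - (C l + C l⁻¹) * X + 1) * a2 +
        (X ^ 2 - (C l + C l⁻¹ + (C u + C u⁻¹)) * (X ^ 3 + X)) * a3
    have z : aeval (M b c) (X ^ 4 + C c * X ^ 3 + C (b ^ 2) * X ^ 2 + C c * X + 1) = 0 := by
      rw [show X ^ 4 + C c * X ^ 3 + C (b ^ 2) * X ^ 2 + C c * X + 1 =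
        X * X * (X * X + C c * X + C (b ^ 2)) + C c * X + 1 by ring]
      simpa [Algebra.algebraMap_eq_smul_one, _root_.smul_pow] using ch two b c
    have := congrArg (aeval (M b c)) hf
    rw [e, map_mul, z, zero_mul] at this
    simpa [sub_eq_zero] using this
  · have e : M b c *ᵥ ![l ^ 2 + 1, b * l, b * l ^ 2, l ^ 3 + l] = l • ![l ^ 2 + 1, b * l, b * l ^ 2, l ^ 3 + l] := by
      ext i
      fin_cases i <;> simp [M, mulVec, dotProduct, Fin.sum_univ_four] <;> grind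
    have k : ∀ n, M b c ^ n *ᵥ ![l ^ 2 + 1, b * l, b * l ^ 2, l ^ 3 + l] =
        l ^ n • ![l ^ 2 + 1, b * l, b * l ^ 2, l ^ 3 + l] := fun n => by
      induction n with
      | zero => simp
      | succ n ih => rw [pow_succ, ← mulVec_mulVec, e, mulVec_smul, ih, smul_smul, pow_succ' l n]
    have := congrFun (k (orderOf (M b c))) 0
    rw [pow_orderOf_eq_one, one_mulVec] at this
    refine (mul_right_cancel₀ (fun e : l ^ 2 + 1 = 0 => h1 ?_) ((one_mul _).trans this)).symm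
    linear_combination l⁻¹ * e - l * l0 - l⁻¹ * two

theorem exists_order {F : Type} [Field F] [Fintype F] [CharP F 2] (K : Type) [Field K] [Finite K] [Algebra F K]
    (h4 : Module.finrank F K = 4) {n m : ℕ} (hF : Fintype.card F = 2 ^ (2 * n + 1)) (h2 : 2 < m)
    (hd : m ∣ (2 ^ (2 * n + 1)) ^ 2 + 1)
    (hm : m + 2 ^ (n + 1) = 2 ^ (2 * n + 1) + 1 ∨ m = 2 ^ (n + 1) + (2 ^ (2 * n + 1) + 1)) :
    ∃ g : Cfsg.Lie.Sz F (2 ^ (n + 1)), orderOf g = m := by
  have : CharP K 2 := (Algebra.charP_iff F K 2).1 inferInstance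
  have hq := Nat.card_eq_fintype_card.trans hF
  generalize hq' : 2 ^ (2 * n + 1) = q at hd hm hq
  have hK : Nat.card K = q ^ 4 := by rw [Module.natCard_eq_pow_finrank (K := F), hq, h4]
  obtain ⟨x, hx⟩ := IsCyclic.exists_ofOrder_eq_natCard (α := Kˣ)
  obtain ⟨y, -, hy⟩ := exists_order_of_dvd x (n := m) (hd.trans (by
    rw [hx, Nat.card_units, hK, show q ^ 4 - 1 = (q ^ 2) ^ 2 - 1 ^ 2 by ring_nf, Nat.sq_sub_sq]
    exact dvd_mul_right _ _))
  rw [← orderOf_units] at hy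
  have l0 := y.ne_zero
  generalize (y : K) = l at *
  have hl : l ^ m = 1 := hy ▸ pow_orderOf_eq_one l
  have e1 : (l ^ q) ^ q = l⁻¹ := eq_inv_of_mul_eq_one_left (by
    rw [← pow_mul, ← pow_succ, ← pow_two]; exact orderOf_dvd_iff_pow_eq_one.1 (hy ▸ hd))
  have n1 : l ≠ l⁻¹ := fun e => (Nat.le_of_dvd two_pos (hy ▸ orderOf_dvd_of_pow_eq_one (n := 2) (by
    rw [pow_two]; nth_rw 2 [e]; exact mul_inv_cancel₀ l0))).not_gt h2
  obtain ⟨c, hc⟩ : ∃ c : F, algebraMap F K c = l + l⁻¹ + (l ^ q + (l ^ q)⁻¹) := ⟨Algebra.trace F K l, by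
    rw [FiniteField.algebraMap_trace_eq_sum_pow, h4, hq]
    simp only [Finset.sum_range_succ, Finset.sum_range_zero, pow_succ q, pow_zero, one_mul, pow_mul, e1, inv_pow, pow_one]
    ring⟩
  have hb : (c ^ 2 ^ n) ^ 2 ^ (n + 1) = c := by
    rw [← pow_mul, ← pow_add, show n + (n + 1) = 2 * n + 1 by ring, ← hF, FiniteField.pow_card]
  have hb2 : c ^ 2 ^ (n + 1) = (c ^ 2 ^ n) ^ 2 := by rw [← pow_mul, pow_succ]
  have hs : (M (c ^ 2 ^ n) c)ᵀ * J4 F * M (c ^ 2 ^ n) c = J4 F := by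
    ext i j
    fin_cases i <;> fin_cases j <;> simp [M, J4, Matrix.mul_apply, Fin.sum_univ_four, CharTwo.add_self_eq_zero]
  let g := GeneralLinearGroup.mkOfDetNeZero (M (c ^ 2 ^ n) c) fun e => by
    have := congrArg det hs
    rw [det_mul, e, mul_zero] at this
    simpa [← this] using congrArg det (J4_mul (F := F))
  refine ⟨⟨g, subset_closure ⟨mem_Sp4.2 hs, ?_⟩⟩, ?_⟩
  · change Cfsg.Lie.star4 (M _ _) = (M _ _).map _
    rw [star4_eq]
    ext i j
    fin_cases i <;> fin_cases j <;> simp [M, hb, hb2, CharTwo.neg_eq, pow_two]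
  rw [← orderOf_coe, ← orderOf_units, ← orderOf_injective (algebraMap F K).mapMatrix.toMonoidHom
    (Matrix.map_injective (algebraMap F K).injective)]
  rw [show (algebraMap F K).mapMatrix.toMonoidHom _ = M (algebraMap F K (c ^ 2 ^ n)) (algebraMap F K c) from by
    ext i j; fin_cases i <;> fin_cases j <;> simp [g, M]]
  refine order hy (u := l ^ q) (by rw [pow_right_comm, hl, one_pow]) (by omega) n1
    (fun e => n1 (by simpa [e1] using congrArg (· ^ q) e.symm)) (fun e => n1 (by rw [← e1, e, e]))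
    (fun e => n1 (by rw [← e1, e, inv_pow, e, inv_inv])) hc ?_
  rw [← map_pow, ← hb2, map_pow, hc]
  simp only [add_pow_char_pow, inv_pow]
  rw [pow_right_comm l q]
  have u0 := pow_ne_zero q l0
  have : l ^ 2 ^ (n + 1) = l ^ q * l ∨ l ^ 2 ^ (n + 1) = (l ^ q * l)⁻¹ := hm.imp
    (fun e => by rw [← pow_succ, ← e, pow_add l, hl, one_mul]) fun e =>
      eq_inv_of_mul_eq_one_left (by rw [← pow_succ, ← pow_add, ← e, hl])
  rcases this with e | e <;> simp only [e, inv_pow, mul_pow, e1] <;> field_simp <;> ring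

end Sz

variable {G : Type*} [Group G] [Finite G]

theorem exists_four {Q : Subgroup G} (h : IsPGroup 2 Q) (hn : ¬ IsMulCommutative Q) : ∃ w : G, orderOf w = 4 := by
  obtain ⟨x, hx⟩ : ∃ x : Q, x * x ≠ 1 := by
    by_contra! e
    exact hn ⟨⟨fun a b => (Commute.of_orderOf_dvd_two (fun g => orderOf_dvd_of_pow_eq_one (by rw [pow_two, e])) a b).eq⟩⟩
  obtain ⟨k, hk⟩ := IsPGroup.iff_orderOf.1 h x
  obtain ⟨w, -, hw⟩ := exists_order_of_dvd (x : G) (n := 4) (by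
    rw [orderOf_coe, hk]
    exact pow_dvd_pow 2 (show 2 ≤ k from by_contra fun e => hx (by
      rw [← pow_two, ← orderOf_dvd_iff_pow_eq_one, hk]; simpa using pow_dvd_pow 2 (show k ≤ 1 by omega))))
  exact ⟨w, hw⟩

theorem sz_tori' {H Q D : Subgroup G} {t s r : G} (h : BS.Hyp H Q D t s r) (c : BS.Concl Q D t s)
    (c' : BS.TypeSz Q D t s) (hL : BS.LL Q t = ⊤) : SzC G := by
  have φ : BS.LL Q t ≃* G := (MulEquiv.subgroupCongr hL).trans Subgroup.topEquiv
  obtain ⟨F, _, _, n, h1, h2, h3, ⟨ψ⟩⟩ := c'.iso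
  have h5 := c'.infD
  have h6 := h.card_KK
  rw [hL, top_inf_eq] at h5
  have hs := c.simple
  have e : 2 ^ (n + 1) * 2 ^ (n + 1) = 2 * 2 ^ (2 * n + 1) := by ring
  have a : 4 ≤ 2 ^ (n + 1) := Nat.pow_le_pow_right (n := 2) (i := 2) two_pos (by omega)
  have b : 2 * 2 ^ (n + 1) ≤ 2 ^ (2 * n + 1) := pow_succ' 2 _ ▸ Nat.pow_le_pow_right two_pos (by omega)
  have d : (2 ^ (2 * n + 1)) ^ 2 + 1 = (2 ^ (2 * n + 1) - 2 ^ (n + 1) + 1) * (2 ^ (2 * n + 1) + 2 ^ (n + 1) + 1) := by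
    zify [show 2 ^ (n + 1) ≤ 2 ^ (2 * n + 1) by omega] at e ⊢
    linear_combination e
  obtain ⟨w, hw⟩ := exists_four c.two c'.nonab
  obtain ⟨x, hx⟩ := @IsCyclic.exists_ofOrder_eq_natCard _ _ h.cyclic_KK
  have : CharP F 2 := charP_of_card_eq_prime_pow h2
  obtain ⟨y, hy⟩ := Sz.exists_order _ (FiniteField.finrank_extension F 2 4) h2 (by omega) (Dvd.intro _ d.symm) (.inl (by omega))
  obtain ⟨z, hz⟩ := Sz.exists_order _ (FiniteField.finrank_extension F 2 4) h2 (by omega) (Dvd.intro_left _ d.symm) (.inr (by omega))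
  refine ⟨n, h1, φ.isSimpleGroup_congr.1 hs, ?_, w, x, φ (ψ.symm y), φ (ψ.symm z), hw, by rw [orderOf_coe]; omega,
    by simpa using hy, by simpa using hz⟩
  rw [← H.card_mul_index, h.index, ← h.sdp.card, c'.card, ← h2, h3, ← h6, ← h5, Nat.add_sub_cancel]
  ring

theorem sz_tori {H Q D : Subgroup G} {t s r : G} (h : BS.Hyp H Q D t s r) (c : BS.Concl Q D t s)
    (c' : BS.TypeSz Q D t s) (hL : BS.LL Q t = ⊤) (_ : BS.VV D t = ⊥) : SzC G := sz_tori' h c c' hL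

end Cfsg.Agent.Lib.OD
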