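/-
S4371 project: tori of `L₂(q)`.
-/
import Cfsg.Agent.Lib.OD.Defs
import Cfsg.Agent.Lib.Hall.PSL2b

set_option autoImplicit false

namespace Cfsg.Agent.Lib.OD

open Matrix Cfsg.Agent.Lib.HallPSL

variable (F : Type*) [Field F] [Fintype F]

theorem exists_sl_add : ∃ g : SL2 F, orderOf g = Fintype.card F + 1 := by
  obtain ⟨p, _⟩ := CharP.exists F
  have := Fact.mk (CharP.char_is_prime F p)
  let K := FiniteField.Extension F p 2
  have hK : Nat.card K = Nat.card F ^ 2 := FiniteField.natCard_extension F p 2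
  let b := Module.finBasisOfFinrankEq F K (FiniteField.finrank_extension F p 2)
  obtain ⟨x, hx⟩ := IsCyclic.exists_ofOrder_eq_natCard (α := Kˣ)
  obtain ⟨q, hq⟩ : ∃ q, Nat.card F = q + 1 := ⟨_, (Nat.succ_pred_eq_of_pos Nat.card_pos).symm⟩
  have q0 : 0 < q := by have := Finite.one_lt_card (α := F); omega
  have e : Nat.card K - 1 = q * (q + 2) := by rw [hK, hq]; exact Nat.sub_eq_of_eq_add (by ring)
  rw [Nat.card_units, e] at hx
  have h1 : orderOf ((x : K) ^ q) = q + 2 := by
    rw [orderOf_pow_of_dvd q0.ne' (by rw [orderOf_units, hx]; exact dvd_mul_right _ _), orderOf_units, hx,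
      Nat.mul_div_cancel_left _ q0]
  have h2 : (Algebra.leftMulMatrix b ((x : K) ^ q)).det = 1 := by
    rw [← Algebra.norm_eq_matrix_det]
    refine (algebraMap F K).injective ?_
    rw [FiniteField.algebraMap_norm_eq_pow, e, hq, Nat.add_sub_cancel, Nat.mul_div_cancel_left _ q0, ← h1,
      pow_orderOf_eq_one, map_one]
  refine ⟨⟨_, h2⟩, (orderOf_injective SpecialLinearGroup.coeMonoidHom Subtype.val_injective _).symm.trans ?_⟩
  rw [← Nat.card_eq_fintype_card, hq]
  exact (orderOf_injective (Algebra.leftMulMatrix b).toMonoidHom (Algebra.leftMulMatrix_injective b) _).trans h1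

theorem exists_sl_sub : ∃ g : SL2 F, orderOf g = Fintype.card F - 1 := by
  obtain ⟨x, hx⟩ := IsCyclic.exists_ofOrder_eq_natCard (α := Fˣ)
  let f : Fˣ →* SL2 F :=
    { toFun := fun u => ⟨!![u, 0; 0, (u⁻¹ : Fˣ)], by simp⟩
      map_one' := Subtype.ext (by simp [one_fin_two])
      map_mul' := fun u v => Subtype.ext (by change _ = _ * _; simp [mul_comm]) }
  refine ⟨f x, ?_⟩
  rw [orderOf_injective f fun u v h => Units.ext (congrArg (·.1 0 0) h), hx, Nat.card_units, Nat.card_eq_fintype_card]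

variable {F}
omit [Fintype F]

theorem orderOf_dvd_pr (g : SL2 F) : orderOf g ∣ 2 * orderOf (pr g) := by
  refine orderOf_dvd_of_pow_eq_one (Subtype.ext ?_)
  have := pr_eq_one_iff.1 (map_pow pr g _ ▸ pow_orderOf_eq_one (pr g))
  rw [mul_comm, pow_mul, pow_two, val_mul]
  rcases this with e | e <;> simp [e]

theorem orderOf_pr [CharP F 2] (g : SL2 F) : orderOf (pr g) = orderOf g :=
  orderOf_injective pr ((injective_iff_map_eq_one _).2 fun _ h => Subtype.ext
    ((pr_eq_one_iff.1 h).elim id fun e => e.trans (CharTwo.neg_eq _))) g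

theorem tori_even (F : Type) [Field F] [Fintype F] [CharP F 2] :
    ∃ x y : Matrix.ProjectiveSpecialLinearGroup (Fin 2) F,
      orderOf x = Fintype.card F + 1 ∧ orderOf y = Fintype.card F - 1 := by
  obtain ⟨x, hx⟩ := exists_sl_add F
  obtain ⟨y, hy⟩ := exists_sl_sub F
  exact ⟨pr x, pr y, (orderOf_pr x).trans hx, (orderOf_pr y).trans hy⟩

theorem tori_odd (F : Type) [Field F] [Fintype F] (h : Odd (Fintype.card F)) :
    ∃ x y : Matrix.ProjectiveSpecialLinearGroup (Fin 2) F,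
      orderOf x = (Fintype.card F + 1) / 2 ∧ orderOf y = (Fintype.card F - 1) / 2 := by
  have k : ∀ (g : SL2 F) (n : ℕ), orderOf g = 2 * n → ∃ x : Matrix.ProjectiveSpecialLinearGroup (Fin 2) F,
      orderOf x = n := fun g n e =>
    let ⟨x, _, hx⟩ := exists_order_of_dvd (pr g) (Nat.dvd_of_mul_dvd_mul_left two_pos (e ▸ orderOf_dvd_pr g))
    ⟨x, hx⟩
  obtain ⟨m, hm⟩ := h
  obtain ⟨x, hx⟩ := exists_sl_add F
  obtain ⟨y, hy⟩ := exists_sl_sub F
  obtain ⟨x, hx⟩ := k x ((Fintype.card F + 1) / 2) (by omega)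
  obtain ⟨y, hy⟩ := k y ((Fintype.card F - 1) / 2) (by omega)
  exact ⟨x, y, hx, hy⟩

end Cfsg.Agent.Lib.OD
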