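/-
S4371 project: groups with a strongly embedded subgroup.
-/
import Cfsg.Agent.Lib.OD.Tori
import Cfsg.Agent.Lib.OD.Omega
import Cfsg.Agent.Lib.OD.Sz

set_option autoImplicit false

namespace Cfsg.Agent.Lib.OD

open Subgroup Cfsg.Agent.Lib.Core Cfsg.Agent.FT Cfsg.Agent.BS Cfsg.Agent.BS.P0 Cfsg.Agent.BS.P1 Cfsg.Agent.Lib.Invol
open scoped Cfsg.Agent.Lib.Glaub

theorem nine {F : Type} [Field F] [Fintype F] [CharP F 2] {τ : RingAut F} (h : orderOf τ = 3) :
    9 ∣ Fintype.card F + 1 ∨ 9 ∣ Fintype.card F - 1 := by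
  have : Finite (RingAut F) := DFunLike.finite _
  have := Fintype.ofFinite (zpowers τ)
  obtain ⟨n, -, hn⟩ := FiniteField.card F 2
  have h3 : ¬ 3 ∣ Fintype.card F := fun e => absurd (Nat.prime_three.dvd_of_dvd_pow (hn ▸ e)) (by decide)
  rw [← Nat.card_eq_fintype_card, Module.natCard_eq_pow_finrank (K := FixedPoints.subfield (zpowers τ) F),
    FixedPoints.finrank_eq_card, ← Nat.card_eq_fintype_card, Nat.card_zpowers, h] at h3 ⊢
  generalize Nat.card (FixedPoints.subfield (zpowers τ) F) = q at *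
  have e := Nat.pow_mod q 3 9
  have l := Nat.mod_lt q (show 0 < 9 by omega)
  generalize q ^ 3 = a at *
  generalize q % 9 = b at *
  interval_cases b <;> omega

variable {G : Type*} [Group G] [Finite G]

/-- Bender's theorem when `O(G) = 1` -/
theorem SE.hyp (hO : OppOf 2 (⊤ : Subgroup G) = ⊥) (hM : SE G) :
    ∃ (H Q D : Subgroup G) (t s r : G), Hyp H Q D t s r := by
  obtain ⟨H, hH⟩ := hM
  have odd : ∀ Y : Subgroup G, Y ⊲ ⊤ → Odd (Nat.card Y) → Y = ⊥ := fun Y hY ho =>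
    le_bot_iff.1 (hO ▸ hY.le_OppOf (p := 2) ho.not_two_dvd_nat)
  refine ⟨H, bender hH (odd _ (nrm_top_iff.2 inferInstance) (odd_of_le hH H.normalCore_le)) ?_⟩
  by_contra hr
  obtain ⟨t, D, h⟩ := exists_SE' hH
  obtain ⟨s, hs, s2⟩ := se_invol hH
  obtain ⟨Y, hY, oY, h1, -⟩ := bs_sub (fun e => hr (h.rk2_top e)) (mem_top s) s2
  rw [odd Y hY oY] at h1
  exact h.tH (se_C1 hH hs s2 (mem_C1_comm.1 (mem_C1_iff_conj.2 (mul_inv_eq_one.1 (mem_bot.1 (h1 t (mem_top t)))))))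

theorem LL_top {H Q D : Subgroup G} {t s r : G} (h : Hyp H Q D t s r) (c : Concl Q D t s) (hV : VV D t = ⊥) :
    LL Q t = ⊤ := by
  have hD : D ≤ LL Q t := by
    rw [← h.sdp_D.sup, hV, sup_bot_eq]
    rcases c.cases with c | c | c
    exacts [c.infD.ge.trans inf_le_left, c.infD.ge.trans inf_le_left, (le_sup_left.trans c.infD.ge).trans inf_le_left]
  have hH : H ≤ LL Q t := h.sdp.sup ▸ sup_le le_sup_left hD
  refine eq_top_iff.2 fun g _ => by_contra fun e => ?_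
  obtain ⟨a, ha, b, hb, rfl⟩ := h.two g fun e' => e (hH e')
  exact e (mul_mem (mul_mem (hH ha) (C1c.t_mem h.toA1s)) (hH hb))

theorem H3.VV_bot (h3 : H3 G) {H Q D : Subgroup G} {t s r : G} (h : Hyp H Q D t s r) (c : Concl Q D t s) :
    VV D t = ⊥ := by
  by_contra hV
  obtain ⟨p, hp, hd⟩ := Nat.exists_prime_and_dvd (mt card_eq_one.1 hV)
  have := Fact.mk hp
  obtain ⟨x, hx⟩ := exists_prime_orderOf_dvd_card' p hd
  rw [← orderOf_coe] at hx
  have p2 : p ≠ 2 := fun e => absurd (e ▸ hx ▸ h.oddOf x.2.1 : Odd 2) (by decide)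
  have l2 := hp.two_le
  have xs : Commute (x : G) s := mul_inv_eq_iff_eq_mul.1 (h.conj_VV x.2).1
  have xt : Commute (x : G) t := mem_C1.1 x.2.2
  have o1 : orderOf (x * s) = p * 2 := by
    rw [xs.orderOf_mul_eq_mul_orderOf_of_coprime (by rwa [hx, h.hs, Nat.coprime_primes hp Nat.prime_two]), hx, h.hs]
  have k : ¬ ¬ IsMulCommutative Q := fun e => by
    obtain ⟨w, hw⟩ := exists_four c.two e
    exact h3.false Nat.prime_two h.hs hw o1 (by omega) (by omega) (by omega) (by omega) (by omega) (by omega)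
  obtain c' := (c.cases.resolve_right fun e => e.elim (fun c => k c.nonab) fun c => k c.nonab)
  obtain rfl : p = 3 := by_contra fun p3 => h3.false hp hx o1 (c := x * (s * t)) (z := p * 3) (by
    rw [(xs.mul_right xt).orderOf_mul_eq_mul_orderOf_of_coprime
      (by rwa [hx, c'.ord, Nat.coprime_primes hp Nat.prime_three]), hx, c'.ord]) (by omega) (by omega) (by omega) dvd_rfl
    (dvd_mul_right _ _) (dvd_mul_right _ _)
  obtain ⟨F, _, _, _, hF, ⟨κ⟩⟩ := h.coord
  obtain ⟨F', _, _, _, hF', ⟨ψ⟩⟩ := c'.iso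
  have := nine (τ := κ.σ x) (orderOf_eq_prime (by rw [← map_pow, ← hx, orderOf_coe, pow_orderOf_eq_one, map_one]) fun e => by
    have := (κ.σ_ker x).1 e
    rw [h.WW_eq, ← c'.eq, ← h.core_eq, h.core, mem_bot] at this
    simp [this] at hx)
  obtain ⟨y, z, hy, hz⟩ := tori_even F'
  rw [hF, ← hF', ← hy, ← hz] at this
  obtain ⟨w, hw⟩ : ∃ w : Matrix.ProjectiveSpecialLinearGroup (Fin 2) F', orderOf w = 9 :=
    this.elim (fun e => (exists_order_of_dvd y e).imp fun _ => And.right) fun e => (exists_order_of_dvd z e).imp fun _ => And.right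
  exact h3.false Nat.prime_three hx o1 (c := ψ.symm w) (z := 9) (by simpa using hw) (by omega) (by omega) (by omega)
    (by omega) (by omega) (by omega)

theorem of_VV_bot {H Q D : Subgroup G} {t s r : G} (h : Hyp H Q D t s r) (hV : VV D t = ⊥) : L2e G ∨ SzC G := by
  have hL := LL_top h h.concl hV
  have h4 := h.four_le h.rank
  rcases h.concl.cases with c | c | c
  · obtain ⟨F, _, _, h1, h2, ⟨ψ⟩⟩ := c.iso
    exact .inl ⟨F, _, _, h1, h2 ▸ h4, ⟨((MulEquiv.subgroupCongr hL).trans topEquiv).symm.trans ψ⟩⟩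
  · exact .inr (sz_tori' h h.concl c hL)
  · have := c.cardW
    rw [WW, hV, bot_inf_eq, inf_bot_eq, card_bot, one_mul] at this
    have := Nat.gcd_le_left (m := 3) (Nat.card (Q0 Q) + 1) three_pos
    omega

theorem H3.se' (h : H3 G) (hO : OppOf 2 (⊤ : Subgroup G) = ⊥) (hM : SE G) : L2e G ∨ SzC G := by
  obtain ⟨H, Q, D, t, s, r, hy⟩ := hM.hyp hO
  exact of_VV_bot hy (h.VV_bot hy hy.concl)

theorem H3.se (h : H3 G) (_ : ¬ Group.IsSolvable G) (hO : OppOf 2 (⊤ : Subgroup G) = ⊥)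
    (_ : OpOf 2 (⊤ : Subgroup G) = ⊥) (hM : SE G) : L2e G ∨ SzC G := h.se' hO hM

end Cfsg.Agent.Lib.OD
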